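import Cfsg.Agent.Lib.Fus.M24Index.Sylow

/-!
A transitive subgroup of the code group containing the Sylow subgroup has a block system
refining its octad, with blocks of size four or eight.
-/

set_option autoImplicit false

namespace Cfsg.Agent.Fus.M24Index

open Cfsg.Agent.Spor.Golay
open scoped Pointwise

variable {S K : Subgroup ↥M24}

/-- The octad of the Sylow subgroup. -/
abbrev O : Finset GolayPt := pts octA

theorem card_O : (O : Finset GolayPt).card = 8 := by rw [card_pts]; decide +kernel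

theorem pt0_mem : pt 0 ∈ O := by rw [mem_pts]; decide +kernel

theorem pt5_not_mem : pt 5 ∉ O := by rw [mem_pts]; decide +kernel

theorem smul_coe (k : ↥M24) (p : GolayPt) : k • p = (k : Equiv.Perm GolayPt) p := rfl

theorem smulO (hS : Good S) {s : ↥M24} (hs : s ∈ S) : s • (O : Finset GolayPt) = O := by
  refine Finset.eq_of_subset_of_card_le ?_ (by rw [Finset.card_smul_finset])
  intro x hx
  obtain ⟨y, hy, rfl⟩ := Finset.mem_smul_finset.mp hx
  exact hS.fixO s hs y hy

/-- Either the octad is invariant, or the group is transitive. -/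
theorem octad_or_transitive (hS : Good S) (hK : S ≤ K) :
    (∀ k ∈ K, k • (O : Finset GolayPt) = O) ∨ ∀ p, ∃ k ∈ K, k • pt 0 = p := by
  by_cases h : ∃ k ∈ K, k • pt 0 ∉ O
  · right
    obtain ⟨k, hk, hko⟩ := h
    obtain ⟨s, hs, -, hs5⟩ := hS.outO _ hko
    have h5 : ∀ q ∉ O, ∃ k' ∈ K, k' • pt 0 = q := by
      intro q hq
      obtain ⟨t, ht, -, ht5⟩ := hS.outO q hq
      refine ⟨t * s⁻¹ * k, K.mul_mem (K.mul_mem (hK ht) (K.inv_mem (hK hs))) hk, ?_⟩
      rw [mul_smul, mul_smul, show s⁻¹ • k • pt 0 = pt 5 from inv_smul_eq_iff.mpr hs5.symm]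
      exact ht5
    intro p
    by_cases hp : p ∈ O
    · obtain ⟨t, ht, he⟩ := hS.onO p hp
      exact ⟨t, hK ht, he⟩
    · exact h5 p hp
  · left
    push Not at h
    intro k hk
    refine Finset.eq_of_subset_of_card_le ?_ (by rw [Finset.card_smul_finset])
    intro x hx
    obtain ⟨y, hy, rfl⟩ := Finset.mem_smul_finset.mp hx
    obtain ⟨t, ht, he⟩ := hS.onO y hy
    rw [← he, ← smul_coe, ← mul_smul]
    exact h _ (K.mul_mem hk (hK ht))

/-- The block of a point: the intersection of the translates of the octad through it. -/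
noncomputable def blk (K : Subgroup ↥M24) (p : GolayPt) : Finset GolayPt := by
  classical
  exact Finset.univ.filter fun y =>
    ∀ k ∈ K, p ∈ k • (O : Finset GolayPt) → y ∈ k • (O : Finset GolayPt)

theorem mem_blk {p y : GolayPt} : y ∈ blk K p ↔
    ∀ k ∈ K, p ∈ k • (O : Finset GolayPt) → y ∈ k • (O : Finset GolayPt) := by
  classical
  simp [blk]

theorem mem_blk_self (p : GolayPt) : p ∈ blk K p := mem_blk.mpr fun _ _ h => h

theorem smul_blk {g : ↥M24} (hg : g ∈ K) (p : GolayPt) : blk K (g • p) = g • blk K p := by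
  ext y
  rw [← Finset.inv_smul_mem_iff, mem_blk, mem_blk]
  constructor
  · intro h k hk hp
    have := h (g * k) (K.mul_mem hg hk) (by
      rw [mul_smul]; exact Finset.smul_mem_smul_finset hp)
    rwa [mul_smul, ← Finset.inv_smul_mem_iff] at this
  · intro h k hk hp
    have := h (g⁻¹ * k) (K.mul_mem (K.inv_mem hg) hk) (by
      rw [mul_smul, Finset.mem_inv_smul_finset_iff]; exact hp)
    rw [mul_smul, Finset.mem_inv_smul_finset_iff, smul_inv_smul] at this
    exact this

/-- The translates of the octad through a point. -/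
def trans (K : Subgroup ↥M24) (p : GolayPt) : Set (Finset GolayPt) :=
  {Z | ∃ k ∈ K, Z = k • (O : Finset GolayPt) ∧ p ∈ Z}

theorem blk_congr {p q : GolayPt} (h : trans K p = trans K q) : blk K p = blk K q := by
  ext y
  rw [mem_blk, mem_blk]
  constructor
  · intro hy k hk hq
    obtain ⟨k', hk', e, hp⟩ : k • (O : Finset GolayPt) ∈ trans K p := h ▸ ⟨k, hk, rfl, hq⟩
    exact hy k hk hp
  · intro hy k hk hp
    obtain ⟨k', hk', e, hq⟩ : k • (O : Finset GolayPt) ∈ trans K q := h ▸ ⟨k, hk, rfl, hp⟩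
    exact hy k hk hq

theorem smul_trans {g : ↥M24} (hg : g ∈ K) (p : GolayPt) :
    trans K (g • p) = (fun Z => g • Z) '' trans K p := by
  ext Z
  constructor
  · rintro ⟨k, hk, rfl, hp⟩
    refine ⟨g⁻¹ • k • O, ⟨g⁻¹ * k, K.mul_mem (K.inv_mem hg) hk, (mul_smul ..).symm, ?_⟩, ?_⟩
    · rw [Finset.mem_inv_smul_finset_iff]; exact hp
    · exact smul_inv_smul g _
  · rintro ⟨_, ⟨k, hk, rfl, hp⟩, rfl⟩
    exact ⟨g * k, K.mul_mem hg hk, (mul_smul ..).symm, Finset.smul_mem_smul_finset hp⟩

/-- Points of a block have the same block. -/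
theorem blk_eq_of_mem (htr : ∀ p, ∃ k ∈ K, k • pt 0 = p) {p y : GolayPt} (hy : y ∈ blk K p) :
    blk K y = blk K p := by
  refine (blk_congr ?_).symm
  have hsub : trans K p ⊆ trans K y := fun Z ⟨k, hk, e, hp⟩ =>
    ⟨k, hk, e, e ▸ mem_blk.mp hy k hk (e ▸ hp)⟩
  refine Set.eq_of_subset_of_ncard_le hsub ?_ (Set.toFinite _)
  obtain ⟨g, hg, rfl⟩ := htr p
  obtain ⟨g', hg', rfl⟩ := htr y
  rw [smul_trans hg, smul_trans hg',
    Set.ncard_image_of_injective _ (MulAction.injective g),
    Set.ncard_image_of_injective _ (MulAction.injective g')]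

theorem blk_sub (p : GolayPt) (hp : p ∈ O) : blk K p ⊆ O := fun y hy => by
  have := mem_blk.mp hy 1 K.one_mem (by rw [one_smul]; exact hp)
  rwa [one_smul] at this

/-- The block of the base point has at least three points. -/
theorem three_le_blk (hS : Good S) (hK : S ≤ K) (h11 : ¬ 11 ∣ Nat.card K) (h23 : ¬ 23 ∣ Nat.card K) :
    3 ≤ (blk K (pt 0)).card := by
  classical
  let L : Subgroup ↥M24 := K ⊓ MulAction.stabilizer ↥M24 (pt 0)
  let W : Finset GolayPt := Finset.univ.filter fun q => ∃ g ∈ L, g • pt 5 = q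
  have hW : ∀ q, q ∈ W ↔ ∃ g ∈ L, g • pt 5 = q := fun q => by simp [W]
  have hsub : Wᶜ ⊆ blk K (pt 0) := by
    have hO : ∀ y ∈ Wᶜ, y ∈ O := by
      intro y hy
      by_contra hyo
      obtain ⟨s, hs, hs0, hs5⟩ := hS.outO y hyo
      exact (Finset.mem_compl.mp hy) ((hW y).mpr ⟨s, ⟨hK hs, hs0⟩, hs5⟩)
    intro y hy
    rw [mem_blk]
    intro k hk hp
    obtain ⟨o, ho, hko⟩ := Finset.mem_smul_finset.mp hp
    obtain ⟨s, hs, hso⟩ := hS.onO o ho
    have hks : k * s ∈ L := ⟨K.mul_mem hk (hK hs), by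
      show (k * s) • pt 0 = pt 0
      rw [mul_smul, show s • pt 0 = o from hso]; exact hko⟩
    have hy' : (k * s)⁻¹ • y ∈ Wᶜ := by
      rw [Finset.mem_compl, hW]
      rintro ⟨g, hg, he⟩
      refine (Finset.mem_compl.mp hy) ((hW y).mpr ⟨k * s * g, L.mul_mem hks hg, ?_⟩)
      rw [mul_smul, he, smul_inv_smul]
    have hm := Finset.smul_mem_smul_finset (a := k * s) (hO _ hy')
    rw [smul_inv_smul, mul_smul, smulO hS hs] at hm
    exact hm
  refine le_trans ?_ (Finset.card_le_card hsub)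
  rw [Finset.card_compl, Cfsg.Agent.Spor.Golay.card_golayPt]
  have hWcard : W.card ∣ Nat.card K := by
    have e : (W : Set GolayPt) = MulAction.orbit ↥L (pt 5) := by
      ext q
      rw [Finset.mem_coe, hW, MulAction.mem_orbit_iff]
      exact ⟨fun ⟨g, hg, he⟩ => ⟨⟨g, hg⟩, he⟩, fun ⟨g, he⟩ => ⟨g.1, g.2, he⟩⟩
    have h1 := Nat.card_congr (MulAction.orbitProdStabilizerEquivGroup ↥L (pt 5))
    rw [Nat.card_prod, ← e, Nat.card_coe_set_eq, Set.ncard_coe_finset] at h1
    exact (Dvd.intro _ h1).trans (Subgroup.card_dvd_of_le inf_le_left)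
  have h0 : pt 0 ∉ W := by
    rw [hW]
    rintro ⟨g, hg, he⟩
    have h' : g • pt 0 = pt 0 := hg.2
    rw [← h'] at he
    exact pt5_not_mem (MulAction.injective g he ▸ pt0_mem)
  have hle : W.card ≤ 23 := by
    have := Finset.card_le_card (Finset.subset_compl_singleton.mpr h0)
    rw [Finset.card_compl, Cfsg.Agent.Spor.Golay.card_golayPt, Finset.card_singleton] at this
    omega
  have h22 : W.card ≠ 22 := fun h => h11 ((show 11 ∣ W.card by rw [h]; norm_num).trans hWcard)
  have h23' : W.card ≠ 23 := fun h => h23 (h ▸ hWcard)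
  omega

theorem card_blk_eq (htr : ∀ p, ∃ k ∈ K, k • pt 0 = p) (p : GolayPt) :
    (blk K p).card = (blk K (pt 0)).card := by
  obtain ⟨k, hk, rfl⟩ := htr p
  rw [smul_blk hk, Finset.card_smul_finset]

/-- The block size is four or eight. -/
theorem blk_card (hS : Good S) (hK : S ≤ K) (htr : ∀ p, ∃ k ∈ K, k • pt 0 = p)
    (h11 : ¬ 11 ∣ Nat.card K) (h23 : ¬ 23 ∣ Nat.card K) :
    (blk K (pt 0)).card = 4 ∨ (blk K (pt 0)).card = 8 := by
  classical
  have h3 := three_le_blk hS hK h11 h23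
  have h8 : (blk K (pt 0)).card ≤ 8 := card_O ▸ Finset.card_le_card (blk_sub _ pt0_mem)
  have hd : (blk K (pt 0)).card ∣ 8 := by
    rw [← card_O, Finset.card_eq_sum_card_fiberwise (f := blk K) (t := (O : Finset GolayPt).image (blk K))
      (fun x hx => Finset.mem_image_of_mem _ hx)]
    refine Finset.dvd_sum fun B hB => ?_
    obtain ⟨o, ho, rfl⟩ := Finset.mem_image.mp hB
    have : ((O : Finset GolayPt).filter fun x => blk K x = blk K o) = blk K o := by
      ext x
      rw [Finset.mem_filter]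
      exact ⟨fun h => h.2 ▸ mem_blk_self x,
        fun h => ⟨blk_sub o ho h, blk_eq_of_mem htr h⟩⟩
    rw [this, card_blk_eq htr o]
  have := (Nat.mem_divisors.mpr ⟨hd, by norm_num⟩ : (blk K (pt 0)).card ∈ Nat.divisors 8)
  rw [show Nat.divisors 8 = {1, 2, 4, 8} by decide] at this
  simp only [Finset.mem_insert, Finset.mem_singleton] at this
  omega

end Cfsg.Agent.Fus.M24Index
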