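import Cfsg.Agent.Lib.Fus.M24Index.Blocks
import Cfsg.Agent.Lib.Spor.Golay.CensusTools

/-!
Subgroups of odd index of the code group: three cases (octad, trio, sextet).
-/

set_option autoImplicit false

namespace Cfsg.Agent.Fus.M24Index

open Cfsg.Agent.Spor.Golay Cfsg.Agent.Spor.Golay.Census
open scoped Pointwise

/-- Two equal translates under small powers give a fixed point. -/
theorem fix_of_pow_eq {G α : Type*} [Group G] [MulAction G α] {x : G} {q : ℕ} (hq : q.Prime)
    (hx : orderOf x = q) {i j : ℕ} (hi : i < q) (hj : j < q) (hij : i ≠ j) {b : α}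
    (he : x ^ i • b = x ^ j • b) : x • b = b := by
  wlog hlt : i < j generalizing i j
  · exact this hj hi hij.symm he.symm (by omega)
  have hd : x ^ (j - i) • b = b := by
    have h1 : x ^ i • x ^ (j - i) • b = x ^ i • b := by
      rw [← mul_smul, ← pow_add, Nat.add_sub_cancel' hlt.le]; exact he.symm
    exact MulAction.injective _ h1
  obtain ⟨m, hm⟩ := exists_pow_eq_self_of_coprime (x := x) (n := j - i) (by
    rw [hx, Nat.coprime_comm, Nat.Prime.coprime_iff_not_dvd hq]
    intro h; have := Nat.le_of_dvd (by omega) h; omega)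
  have := (MulAction.stabilizer G b).pow_mem
    (show x ^ (j - i) ∈ MulAction.stabilizer G b from hd) m
  rw [hm] at this
  exact this

/-- A point moved inside a small invariant set by an element of prime order is fixed. -/
theorem fix_of_small {G α : Type*} [Group G] [MulAction G α] [DecidableEq α] {x : G} {q : ℕ}
    (hq : q.Prime) (hx : orderOf x = q) (B : Finset α) (hB : ∀ b ∈ B, x • b ∈ B)
    (hlt : B.card < q) {b : α} (hb : b ∈ B) : x • b = b := by
  have hmem : ∀ i : ℕ, x ^ i • b ∈ B := by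
    intro i
    induction i with
    | zero => rwa [pow_zero, one_smul]
    | succ i ih => rw [pow_succ', mul_smul]; exact hB _ ih
  obtain ⟨i, hi, j, hj, hij, he⟩ := Finset.exists_ne_map_eq_of_card_lt_of_maps_to
    (s := Finset.range q) (t := B) (f := fun i => x ^ i • b) (by rwa [Finset.card_range])
    (fun i _ => hmem i)
  exact fix_of_pow_eq hq hx (Finset.mem_range.mp hi) (Finset.mem_range.mp hj) hij he

theorem card_stab_oct : Nat.card (MulAction.stabilizer ↥M24 (O : Finset GolayPt)) = 322560 :=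
  (card_sub fun g => stabilizer_pts 5279 g).trans stageOct.card_Fx

theorem card_stab_smul {β : Type*} [MulAction ↥M24 β] (a : ↥M24) (x : β) :
    Nat.card (MulAction.stabilizer ↥M24 (a • x)) = Nat.card (MulAction.stabilizer ↥M24 x) :=
  Nat.card_congr (MulAction.stabilizerEquivStabilizer (g := a⁻¹) (by rw [inv_smul_smul])).toEquiv

theorem card_stab_trio {T : Finset (Finset GolayPt)} (hT : T ∈ trios) :
    Nat.card (MulAction.stabilizer ↥M24 T) = 64512 := by
  obtain ⟨a, ha, rfl⟩ := exists_trio hT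
  refine (card_stab_smul ⟨a, ha⟩ _).trans ?_
  exact (card_sub fun g => stabilizer_fam _ g).trans stageTrio.card_Fx

theorem card_stab_sextet {T : Finset (Finset GolayPt)} (hT : T ∈ sextets) :
    Nat.card (MulAction.stabilizer ↥M24 T) = 138240 := by
  obtain ⟨a, ha, rfl⟩ := exists_sextet hT
  refine (card_stab_smul ⟨a, ha⟩ _).trans ?_
  exact (card_sub fun g => stabilizer_fam _ g).trans stageSext.card_Fx

variable {S K : Subgroup ↥M24}

/-- All blocks. -/
noncomputable def blocks (K : Subgroup ↥M24) : Finset (Finset GolayPt) := Finset.univ.image (blk K)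

theorem le_stab_blocks : K ≤ MulAction.stabilizer ↥M24 (blocks K) := by
  intro g hg
  rw [MulAction.mem_stabilizer_iff]
  refine Finset.eq_of_subset_of_card_le ?_ (by rw [Finset.card_smul_finset])
  intro x hx
  obtain ⟨B, hB, rfl⟩ := Finset.mem_smul_finset.mp hx
  obtain ⟨p, -, rfl⟩ := Finset.mem_image.mp hB
  exact Finset.mem_image.mpr ⟨g • p, Finset.mem_univ _, smul_blk hg p⟩

theorem blocks_mul (htr : ∀ p, ∃ k ∈ K, k • pt 0 = p) :
    (blocks K).card * (blk K (pt 0)).card = 24 := by
  classical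
  have h := Finset.card_eq_sum_card_fiberwise (f := blk K) (s := (Finset.univ : Finset GolayPt))
    (t := blocks K) (fun x hx => Finset.mem_image_of_mem _ hx)
  rw [Finset.card_univ, Cfsg.Agent.Spor.Golay.card_golayPt] at h
  rw [h, Finset.sum_congr rfl (g := fun _ => (blk K (pt 0)).card), Finset.sum_const, smul_eq_mul]
  intro B hB
  obtain ⟨o, -, rfl⟩ := Finset.mem_image.mp hB
  rw [← card_blk_eq htr o]
  congr 1
  ext x
  rw [Finset.mem_filter]
  exact ⟨fun h => h.2 ▸ mem_blk_self x, fun h => ⟨Finset.mem_univ _, blk_eq_of_mem htr h⟩⟩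

theorem disjoint_blk (htr : ∀ p, ∃ k ∈ K, k • pt 0 = p) {p q : GolayPt} (h : blk K p ≠ blk K q) :
    Disjoint (blk K p) (blk K q) :=
  Finset.disjoint_left.mpr fun _ hp hq =>
    h ((blk_eq_of_mem htr hp).symm.trans (blk_eq_of_mem htr hq))

theorem eight_case (htr : ∀ p, ∃ k ∈ K, k • pt 0 = p) (h8 : (blk K (pt 0)).card = 8) :
    Nat.card K ∣ 64512 := by
  have hO : blk K (pt 0) = O :=
    Finset.eq_of_subset_of_card_le (blk_sub _ pt0_mem) (by rw [card_O, h8])
  have hT : blocks K ∈ trios := by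
    refine ⟨?_, ?_, ?_⟩
    · have := blocks_mul htr; rw [h8] at this; omega
    · intro o ho
      obtain ⟨p, -, rfl⟩ := Finset.mem_image.mp ho
      obtain ⟨k, hk, rfl⟩ := htr p
      rw [smul_blk hk, hO]
      exact smul_octad k.2 pts_octA_mem
    · intro o ho o' ho' hne
      obtain ⟨p, -, rfl⟩ := Finset.mem_image.mp ho
      obtain ⟨p', -, rfl⟩ := Finset.mem_image.mp ho'
      exact disjoint_blk htr hne
  exact card_stab_trio hT ▸ Subgroup.card_dvd_of_le le_stab_blocks

theorem exists_order {q : ℕ} (hq : q.Prime) (h : q ∣ Nat.card K) : ∃ x ∈ K, orderOf x = q := by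
  haveI : Fact q.Prime := ⟨hq⟩
  obtain ⟨x, hx⟩ := exists_prime_orderOf_dvd_card' q h
  exact ⟨x.1, x.2, (Subgroup.orderOf_coe x).trans hx⟩

/-- Some block is moved by a nontrivial element of order at least five. -/
theorem exists_moved (h4 : ∀ p, (blk K p).card = 4) {x : ↥M24}
    (hxK : x ∈ K) {q : ℕ} (hq : q.Prime) (hx : orderOf x = q) (h5 : 5 ≤ q) :
    ∃ B ∈ blocks K, x • B ≠ B := by
  by_contra hcon
  push Not at hcon
  have hfix : ∀ p : GolayPt, x • p = p := by
    intro p
    have hB := hcon _ (Finset.mem_image_of_mem _ (Finset.mem_univ p))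
    refine fix_of_small hq hx (blk K p) (fun b hb => ?_) (by rw [h4]; omega) (mem_blk_self p)
    exact hB ▸ Finset.smul_mem_smul_finset hb
  have h1 : x = 1 := Subtype.ext (Equiv.ext fun p => hfix p)
  rw [h1, orderOf_one] at hx
  omega

theorem four_case_seven (htr : ∀ p, ∃ k ∈ K, k • pt 0 = p) (h4 : (blk K (pt 0)).card = 4) :
    ¬ 7 ∣ Nat.card K := by
  intro h7
  obtain ⟨x, hxK, hx⟩ := exists_order (by norm_num) h7
  obtain ⟨B, hB, hne⟩ := exists_moved (fun p => (card_blk_eq htr p).trans h4) hxK (by norm_num) hx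
    (by norm_num)
  refine hne (fix_of_small (by norm_num) hx (blocks K) (fun C hC => ?_) ?_ hB)
  · have := le_stab_blocks hxK
    rw [MulAction.mem_stabilizer_iff] at this
    exact this ▸ Finset.smul_mem_smul_finset hC
  · have := blocks_mul htr; rw [h4] at this; omega

theorem four_case (hS : Good S) (htr : ∀ p, ∃ k ∈ K, k • pt 0 = p)
    (h4 : (blk K (pt 0)).card = 4) (h5 : 5 ∣ Nat.card K) : blocks K ∈ sextets := by
  classical
  obtain ⟨x, hxK, hx⟩ := exists_order (by norm_num) h5
  obtain ⟨B1, hB1, hne⟩ := exists_moved (fun p => (card_blk_eq htr p).trans h4) hxK (by norm_num)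
    hx le_rfl
  have hcard : (blocks K).card = 6 := by have := blocks_mul htr; rw [h4] at this; omega
  have hst : ∀ i : ℕ, ∀ C ∈ blocks K, x ^ i • C ∈ blocks K := by
    intro i C hC
    have := le_stab_blocks (K.pow_mem hxK i)
    rw [MulAction.mem_stabilizer_iff] at this
    exact this ▸ Finset.smul_mem_smul_finset hC
  have hinj : Set.InjOn (fun i : ℕ => x ^ i • B1) (Finset.range 5) := by
    intro i hi j hj he
    by_contra hij
    rw [Finset.mem_coe, Finset.mem_range] at hi hj
    exact hne (fix_of_pow_eq (by norm_num) hx hi hj hij he)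
  let C5 : Finset (Finset GolayPt) := (Finset.range 5).image fun i => x ^ i • B1
  have hC5 : C5.card = 5 := by rw [Finset.card_image_of_injOn hinj, Finset.card_range]
  have hC5sub : C5 ⊆ blocks K := fun C hC => by
    obtain ⟨i, -, rfl⟩ := Finset.mem_image.mp hC
    exact hst i B1 hB1
  obtain ⟨B0, hB0⟩ : ∃ B0, blocks K \ C5 = {B0} :=
    Finset.card_eq_one.mp (by rw [Finset.card_sdiff_of_subset hC5sub, hcard, hC5])
  have hB0' : B0 ∈ blocks K ∧ B0 ∉ C5 := Finset.mem_sdiff.mp (hB0 ▸ Finset.mem_singleton_self B0)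
  have hrest : ∀ C ∈ blocks K, C ≠ B0 → ∃ i : ℕ, C = x ^ i • B1 := by
    intro C hC hC0
    by_contra h
    push Not at h
    have : C ∈ blocks K \ C5 := Finset.mem_sdiff.mpr ⟨hC, fun hm => by
      obtain ⟨i, -, e⟩ := Finset.mem_image.mp hm; exact h i e.symm⟩
    rw [hB0, Finset.mem_singleton] at this
    exact hC0 this
  have hfix0 : ∀ i : ℕ, x ^ i • B0 = B0 := by
    intro i
    by_contra h
    obtain ⟨j, e⟩ := hrest _ (hst i B0 hB0'.1) h
    refine hB0'.2 (Finset.mem_image.mpr ⟨(j + i * (5 - 1)) % 5, Finset.mem_range.mpr (Nat.mod_lt _ (by norm_num)), ?_⟩)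
    have h5' : x ^ 5 = 1 := hx ▸ pow_orderOf_eq_one x
    rw [← hx, pow_mod_orderOf, hx, show j + i * (5 - 1) = i * 4 + j by omega, pow_add, mul_smul,
      ← e, ← mul_smul, ← pow_add, show i * 4 + i = 5 * i by omega, pow_mul, h5', one_pow, one_smul]
  obtain ⟨p0, -, rfl⟩ := Finset.mem_image.mp hB0'.1
  -- the base block with the rest of the octad
  obtain ⟨y, hyO, hyb⟩ : ∃ y ∈ O, y ∉ blk K (pt 0) := by
    by_contra h
    push Not at h
    have := Finset.card_le_card h
    rw [card_O, h4] at this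
    omega
  have hOeq : blk K (pt 0) ∪ blk K y = O := by
    have hd : Disjoint (blk K (pt 0)) (blk K y) :=
      disjoint_blk htr fun h => hyb (h ▸ mem_blk_self y)
    refine Finset.eq_of_subset_of_card_le (Finset.union_subset (blk_sub _ pt0_mem) (blk_sub _ hyO)) ?_
    rw [Finset.card_union_of_disjoint hd, h4, card_blk_eq htr, h4, card_O]
  obtain ⟨g, hg, hg0⟩ := htr p0
  -- every block joins the block of `p0` to an octad
  have hoct : ∀ C ∈ blocks K, C ≠ blk K p0 → blk K p0 ∪ C ∈ octads := by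
    have hy' : g • blk K y ∈ blocks K := by
      rw [← smul_blk hg]; exact Finset.mem_image_of_mem _ (Finset.mem_univ _)
    have hne' : g • blk K y ≠ blk K p0 := by
      rw [← hg0, smul_blk hg]
      exact fun h => hyb ((MulAction.injective g h) ▸ mem_blk_self y)
    obtain ⟨j, hj⟩ := hrest _ hy' hne'
    intro C hC hC0
    obtain ⟨i, rfl⟩ := hrest C hC hC0
    have h5' : x ^ 5 = 1 := hx ▸ pow_orderOf_eq_one x
    have he : x ^ i • B1 = x ^ (i + 4 * j) • g • blk K y := by
      rw [hj, ← mul_smul, ← pow_add, show i + 4 * j + j = 5 * j + i by omega, pow_add, pow_mul,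
        h5', one_pow, one_mul]
    have h0 : blk K p0 = x ^ (i + 4 * j) • g • blk K (pt 0) := by
      rw [← smul_blk hg, hg0, hfix0]
    rw [he, h0, ← Finset.smul_finset_union, ← Finset.smul_finset_union, hOeq, ← mul_smul]
    exact smul_octad (x ^ (i + 4 * j) * g : ↥M24).2 pts_octA_mem
  refine ⟨hcard, fun t ht => ?_, fun t ht u hu hne' => ?_⟩
  · obtain ⟨p, -, rfl⟩ := Finset.mem_image.mp ht
    rw [card_blk_eq htr, h4]
  · obtain ⟨p, -, rfl⟩ := Finset.mem_image.mp ht
    obtain ⟨k1, hk1, hk1p⟩ := htr p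
    have hk : k1 * g⁻¹ ∈ K := K.mul_mem hk1 (K.inv_mem hg)
    have e : blk K p = (k1 * g⁻¹) • blk K p0 := by
      rw [← smul_blk hk, mul_smul, ← hg0, inv_smul_smul, hk1p]
    have hu' : (k1 * g⁻¹)⁻¹ • u ∈ blocks K := by
      have := le_stab_blocks (K.inv_mem hk)
      rw [MulAction.mem_stabilizer_iff] at this
      exact this ▸ Finset.smul_mem_smul_finset hu
    have hu0 : (k1 * g⁻¹)⁻¹ • u ≠ blk K p0 := by
      rw [e] at hne'
      exact fun h => hne' (by rw [← h, smul_inv_smul])
    rw [e, show u = (k1 * g⁻¹) • (k1 * g⁻¹)⁻¹ • u from (smul_inv_smul _ _).symm,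
      ← Finset.smul_finset_union]
    exact smul_octad (k1 * g⁻¹ : ↥M24).2 (hoct _ hu' hu0)

/-- The three cases. -/
theorem odd_cases (hS : Good S) (hK : S ≤ K) (h11 : ¬ 11 ∣ Nat.card K) (h23 : ¬ 23 ∣ Nat.card K)
    (h5 : 5 ∣ Nat.card K) :
    (K ≤ MulAction.stabilizer ↥M24 (O : Finset GolayPt)) ∨ Nat.card K ∣ 64512 ∨
      (¬ 7 ∣ Nat.card K ∧ ∃ T ∈ sextets, K ≤ MulAction.stabilizer ↥M24 T) := by
  rcases octad_or_transitive hS hK with h | htr
  · exact Or.inl fun k hk => h k hk
  · rcases blk_card hS hK htr h11 h23 with h4 | h8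
    · exact Or.inr (Or.inr ⟨four_case_seven htr h4, blocks K, four_case hS htr h4 h5, le_stab_blocks⟩)
    · exact Or.inr (Or.inl (eight_case htr h8))

end Cfsg.Agent.Fus.M24Index
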