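import Cfsg.Agent.Lib.Fus.M24Index.Main
import Cfsg.Agent.Lib.Spor.Golay.CensusClasses

/-!
A subgroup of the code group of index 276 fixes a pair of points.
-/

set_option autoImplicit false
set_option maxRecDepth 100000

namespace Cfsg.Agent.Fus.M24Index

open Cfsg.Agent.Spor.Golay Cfsg.Agent.Spor.Golay.Census
open scoped Pointwise

theorem five_checks : lowOk table [] five (chainA.drop 5) = true ∧
    upOk [] five (chainA.drop 5) = true ∧ idxOk tableLen (chainA.drop 5) = true ∧
    sizeProd (chainA.drop 5) = 48 ∧ five = ((List.range 5).map fun i =>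
      (chainA.map Prod.fst).getD (4 - i) 0) := by
  decide +kernel

theorem card_Fix_five : Nat.card (Fix [] five) = 48 := by
  obtain ⟨h1, h2, h3, h4, -⟩ := five_checks
  rw [card_Fix tableOk _ _ h1 h2 h3]
  exact h4

/-- The fixed points. -/
def fixSet (g : ↥M24) : Finset GolayPt := Finset.univ.filter fun p => g • p = p

theorem mem_fixSet {g : ↥M24} {p : GolayPt} : p ∈ fixSet g ↔ g • p = p := by simp [fixSet]

theorem order_dvd_of_five {g : ↥M24} (h : 5 ≤ (fixSet g).card) : orderOf g ∣ 48 := by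
  obtain ⟨t, ht, htc⟩ := Finset.exists_subset_card_eq h
  let x : Fin 5 ↪ GolayPt :=
    ((t.equivFinOfCardEq htc).symm.toEmbedding).trans (Function.Embedding.subtype _)
  obtain ⟨k, hk, hkx⟩ := exists_base5 x
  have hmem : (k⁻¹ * (g : Equiv.Perm GolayPt) * k) ∈ Fix [] five := by
    refine mem_Fix.mpr ⟨M24.mul_mem (M24.mul_mem (M24.inv_mem hk) g.2) hk,
      fun _ h => absurd h List.not_mem_nil, fun b hb => ?_⟩
    rw [five_checks.2.2.2.2] at hb
    obtain ⟨i, hi, rfl⟩ := List.mem_map.mp hb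
    rw [List.mem_range] at hi
    have hb5 : pt ((chainA.map Prod.fst).getD (4 - i) 0) = base5 ⟨4 - i, by omega⟩ := rfl
    rw [hb5, Equiv.Perm.mul_apply, Equiv.Perm.mul_apply, hkx]
    have hxf : g • x ⟨4 - i, by omega⟩ = x ⟨4 - i, by omega⟩ :=
      mem_fixSet.mp (ht ((t.equivFinOfCardEq htc).symm ⟨4 - i, by omega⟩).2)
    rw [smul_coe] at hxf
    rw [hxf, ← hkx]
    exact k.symm_apply_apply _
  have h1 : orderOf (⟨_, hmem⟩ : Fix [] five) ∣ 48 := card_Fix_five ▸ orderOf_dvd_natCard _
  rw [← Subgroup.orderOf_coe] at h1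
  have e : k⁻¹ * (g : Equiv.Perm GolayPt) * k = MulAut.conj k⁻¹ (g : Equiv.Perm GolayPt) := by
    simp [MulAut.conj_apply]
  rw [show ((⟨_, hmem⟩ : Fix [] five) : Equiv.Perm GolayPt) = _ from e, MulEquiv.orderOf_eq,
    Subgroup.orderOf_coe] at h1
  exact h1

/-- The size of an invariant set and its number of fixed points. -/
theorem modEq_fixed {x : ↥M24} {q : ℕ} (hq : q.Prime) (hx : orderOf x = q) (Ω : Finset GolayPt)
    (hΩ : ∀ p ∈ Ω, x • p ∈ Ω) : Ω.card ≡ (Ω ∩ fixSet x).card [MOD q] := by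
  classical
  haveI : Fact q.Prime := ⟨hq⟩
  have hiff : ∀ p, (x : Equiv.Perm GolayPt) p ∈ Ω ↔ p ∈ Ω := by
    have hsub : x • Ω ⊆ Ω := fun y hy => by
      obtain ⟨p, hp, rfl⟩ := Finset.mem_smul_finset.mp hy; exact hΩ p hp
    have he : x • Ω = Ω := Finset.eq_of_subset_of_card_le hsub (by rw [Finset.card_smul_finset])
    intro p
    refine ⟨fun h => ?_, hΩ p⟩
    rw [← smul_coe, ← he, Finset.smul_mem_smul_finset_iff] at h
    exact h
  let σ : Equiv.Perm {p // p ∈ Ω} := (x : Equiv.Perm GolayPt).subtypePerm hiff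
  have hσ : σ ^ q ^ 1 = 1 := by
    rw [pow_one]
    refine Equiv.ext fun p => Subtype.ext ?_
    rw [Equiv.Perm.subtypePerm_pow]
    show ((x : Equiv.Perm GolayPt) ^ q) p.1 = p.1
    rw [← SubmonoidClass.coe_pow, ← hx, pow_orderOf_eq_one]
    rfl
  have h := Equiv.Perm.card_compl_support_modEq (p := q) hσ
  rw [Fintype.card_coe] at h
  have hc : σ.supportᶜ.card = (Ω ∩ fixSet x).card := by
    rw [← Finset.card_map (Function.Embedding.subtype _)]
    congr 1
    ext p
    simp only [Finset.mem_map, Finset.mem_compl, Equiv.Perm.mem_support, ne_eq, not_not,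
      Function.Embedding.coe_subtype, Finset.mem_inter, mem_fixSet, smul_coe]
    constructor
    · rintro ⟨⟨y, hy⟩, he, rfl⟩
      exact ⟨hy, congrArg Subtype.val he⟩
    · rintro ⟨hp, he⟩
      exact ⟨⟨p, hp⟩, Subtype.ext he, rfl⟩
  rw [hc] at h
  exact h.symm

theorem card_fixSet {x : ↥M24} {q : ℕ} (hq : q.Prime) (hx : orderOf x = q) (hd : ¬ q ∣ 48) :
    (fixSet x).card ≤ 4 ∧ (fixSet x).card % q = 24 % q := by
  refine ⟨?_, ?_⟩
  · by_contra h
    exact hd (hx ▸ order_dvd_of_five (by omega))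
  · have h := modEq_fixed hq hx Finset.univ fun p _ => Finset.mem_univ _
    rw [Finset.univ_inter, Finset.card_univ, Cfsg.Agent.Spor.Golay.card_golayPt] at h
    exact h.symm

/-- The orbit as a finite set. -/
noncomputable def orb (L : Subgroup ↥M24) (p : GolayPt) : Finset GolayPt := by
  classical
  exact Finset.univ.filter fun q => ∃ g ∈ L, g • p = q

theorem mem_orb {L : Subgroup ↥M24} {p q : GolayPt} : q ∈ orb L p ↔ ∃ g ∈ L, g • p = q := by
  classical
  simp [orb]

theorem self_mem_orb (L : Subgroup ↥M24) (p : GolayPt) : p ∈ orb L p :=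
  mem_orb.mpr ⟨1, L.one_mem, one_smul _ _⟩

theorem smul_mem_orb {L : Subgroup ↥M24} {p q : GolayPt} {g : ↥M24} (hg : g ∈ L) (hq : q ∈ orb L p) :
    g • q ∈ orb L p := by
  obtain ⟨k, hk, rfl⟩ := mem_orb.mp hq
  exact mem_orb.mpr ⟨g * k, L.mul_mem hg hk, mul_smul ..⟩

theorem not_mem_orb {L : Subgroup ↥M24} {p a : GolayPt} (ha : ∀ g ∈ L, g • a = a) (hp : p ≠ a) :
    a ∉ orb L p := fun h => by
  obtain ⟨g, hg, he⟩ := mem_orb.mp h
  exact hp (MulAction.injective g (he.trans (ha g hg).symm))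

theorem orb_mul (L : Subgroup ↥M24) (p : GolayPt) :
    (orb L p).card * Nat.card ↥(L ⊓ MulAction.stabilizer ↥M24 p) = Nat.card L := by
  have e : (orb L p : Set GolayPt) = MulAction.orbit ↥L p := by
    ext q
    rw [Finset.mem_coe, mem_orb, MulAction.mem_orbit_iff]
    exact ⟨fun ⟨g, hg, he⟩ => ⟨⟨g, hg⟩, he⟩, fun ⟨g, he⟩ => ⟨g.1, g.2, he⟩⟩
  have h1 := Nat.card_congr (MulAction.orbitProdStabilizerEquivGroup ↥L p)
  rw [Nat.card_prod, ← e, Nat.card_coe_set_eq, Set.ncard_coe_finset] at h1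
  rw [← h1]
  congr 1
  exact Nat.card_congr
    { toFun := fun g => ⟨⟨g.1, g.2.1⟩, g.2.2⟩
      invFun := fun g => ⟨g.1.1, g.1.2, g.2⟩
      left_inv := fun _ => rfl
      right_inv := fun _ => rfl }

/-- Orbit sizes in the presence of elements of order 11 and 7. -/
theorem orb_size {L : Subgroup ↥M24} {x y : ↥M24} (hxL : x ∈ L) (hyL : y ∈ L) (hx : orderOf x = 11)
    (hy : orderOf y = 7) (h23 : ¬ 23 ∣ Nat.card L) (p : GolayPt) :
    ((orb L p).card = 1 ∨ (orb L p).card = 2 ∨ (orb L p).card = 22 ∨ (orb L p).card = 24) ∧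
      (orb L p ∩ fixSet x).card = (orb L p).card % 11 := by
  obtain ⟨hx4, hxm⟩ := card_fixSet (by norm_num) hx (by norm_num)
  obtain ⟨hy4, hym⟩ := card_fixSet (by norm_num) hy (by norm_num)
  have h1 := modEq_fixed (by norm_num) hx (orb L p) fun q hq => smul_mem_orb hxL hq
  have h2 := modEq_fixed (by norm_num) hy (orb L p) fun q hq => smul_mem_orb hyL hq
  have h3 := Finset.card_le_card (Finset.inter_subset_right : orb L p ∩ fixSet x ⊆ _)
  have h4 := Finset.card_le_card (Finset.inter_subset_right : orb L p ∩ fixSet y ⊆ _)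
  have h5 : (orb L p).card ≠ 23 := fun h => h23 (h ▸ Dvd.intro _ (orb_mul L p))
  have h6 : 1 ≤ (orb L p).card := Finset.card_pos.mpr ⟨p, self_mem_orb L p⟩
  have h7 := Finset.card_le_univ (orb L p)
  rw [Cfsg.Agent.Spor.Golay.card_golayPt] at h7
  rw [Nat.ModEq] at h1 h2
  refine ⟨?_, ?_⟩ <;> omega

theorem invol_fix {u : ↥M24} (hu : orderOf u = 2) (h3 : 3 ≤ (fixSet u).card) :
    (fixSet u).card = 8 := by
  have hu' : orderOf (u : Equiv.Perm GolayPt) = 2 := (Subgroup.orderOf_coe u).trans hu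
  have e : fixSet u = Finset.univ.filter fun p => (u : Equiv.Perm GolayPt) p = p := by
    ext p; simp [mem_fixSet, smul_coe]
  obtain ⟨k, -, h | h⟩ := two_classes u.2 hu'
  · exact e ▸ h.1
  · rw [e, h.1] at h3; omega

theorem two_or_five : ∀ n ∈ Nat.divisors 1680, n % 7 = 1 → 2 ∣ 1680 / n ∨ 5 ∣ 1680 / n := by
  decide +kernel

/-- No subgroup of order 1680 fixing three points contains an element of order seven. -/
theorem no_1680 {L : Subgroup ↥M24} (hL : Nat.card L = 1680) {y : ↥M24} (hyL : y ∈ L)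
    (hy : orderOf y = 7) (hfix : ∀ g ∈ L, ∀ p ∈ fixSet y, g • p = p) : False := by
  classical
  haveI : Fact (Nat.Prime 7) := ⟨by norm_num⟩
  have h3 : (fixSet y).card = 3 := by
    obtain ⟨h4, hm⟩ := card_fixSet (by norm_num) hy (by norm_num)
    omega
  let y' : ↥L := ⟨y, hyL⟩
  have hy' : orderOf y' = 7 := (Subgroup.orderOf_coe y').symm.trans hy
  let P : Sylow 7 ↥L := Sylow.ofCard (Subgroup.zpowers y') (by
    rw [Nat.card_zpowers, hy', hL, show (1680 : ℕ) = 7 ^ 1 * 240 by norm_num,
      Nat.factorization_mul (by norm_num) (by norm_num), Finsupp.add_apply,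
      Nat.Prime.factorization_pow (by norm_num), Finsupp.single_eq_same,
      Nat.factorization_eq_zero_of_not_dvd (n := 240) (by norm_num)]
    norm_num)
  have hn := Sylow.card_eq_index_normalizer P
  have hmod := card_sylow_modEq_one 7 ↥L
  let N : Subgroup ↥L := Subgroup.normalizer ((P : Subgroup ↥L) : Set ↥L)
  have hmul := N.card_mul_index
  rw [hL, show N.index = Nat.card (Sylow 7 ↥L) from hn.symm] at hmul
  have hN : Nat.card N = 1680 / Nat.card (Sylow 7 ↥L) := by
    rw [← hmul, Nat.mul_div_cancel _ Nat.card_pos]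
  have hr := two_or_five (Nat.card (Sylow 7 ↥L))
    (Nat.mem_divisors.mpr ⟨Dvd.intro_left _ hmul, by norm_num⟩) hmod
  rw [← hN] at hr
  obtain ⟨r, hr25, hrd⟩ : ∃ r, (r = 2 ∨ r = 5) ∧ r ∣ Nat.card N :=
    hr.elim (fun h => ⟨2, Or.inl rfl, h⟩) fun h => ⟨5, Or.inr rfl, h⟩
  have hrp : r.Prime := by rcases hr25 with rfl | rfl <;> norm_num
  haveI : Fact r.Prime := ⟨hrp⟩
  obtain ⟨u, hu⟩ := exists_prime_orderOf_dvd_card' r hrd
  let u' : ↥M24 := u.1.1
  have hu' : orderOf u' = r :=
    (Subgroup.orderOf_coe u.1).trans ((Subgroup.orderOf_coe u).trans hu)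
  obtain ⟨k, hk7, hk⟩ : ∃ k, k < 7 ∧ u' * y = y ^ k * u' := by
    have h1 : u.1 * y' * u.1⁻¹ ∈ (P : Subgroup ↥L) :=
      (Subgroup.mem_normalizer_iff.mp u.2 y').mp (Subgroup.mem_zpowers y')
    rw [Sylow.coe_ofCard, ← mem_powers_iff_mem_zpowers, Submonoid.mem_powers_iff] at h1
    obtain ⟨m, hm⟩ := h1
    refine ⟨m % 7, Nat.mod_lt _ (by norm_num), ?_⟩
    have h2 := congrArg (fun g : ↥L => ((g * u.1 : ↥L) : ↥M24)) hm
    simp only [inv_mul_cancel_right] at h2
    rw [show y ^ (m % 7) = y ^ m from hy ▸ pow_mod_orderOf y m]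
    exact h2.symm
  have hconj : ∀ n m : ℕ, u' ^ n * y ^ m = y ^ (k ^ n * m) * u' ^ n := by
    have h1 : ∀ m : ℕ, u' * y ^ m = y ^ (k * m) * u' := by
      intro m
      induction m with
      | zero => simp
      | succ m ih =>
        rw [pow_succ, ← mul_assoc, ih, mul_assoc, hk, ← mul_assoc, ← pow_add, Nat.mul_succ]
    intro n
    induction n with
    | zero => simp
    | succ n ih =>
      intro m
      rw [pow_succ', mul_assoc, ih, ← mul_assoc, h1, mul_assoc, pow_succ', ← mul_assoc k]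
  have hkr : k ^ r % 7 = 1 := by
    have h1 := hconj r 1
    rw [← hu', pow_orderOf_eq_one, one_mul, mul_one, mul_one, pow_one, hu'] at h1
    have h2 : y ^ (k ^ r) = y ^ 1 := by rw [pow_one]; exact h1.symm
    have h3 := pow_eq_pow_iff_modEq.mp h2
    rw [hy] at h3
    exact h3
  have hufix : ∀ p ∈ fixSet y, u' • p = p := fun p hp => hfix u' u.1.2 p hp
  have hu3 : 3 ≤ (fixSet u').card :=
    h3 ▸ Finset.card_le_card fun p hp => mem_fixSet.mpr (hufix p hp)
  have hcomm : k = 1 → ∀ p ∈ fixSet u', y • p ∈ fixSet u' := by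
    rintro rfl p hp
    rw [mem_fixSet] at hp ⊢
    rw [← mul_smul, hk, pow_one, mul_smul, hp]
  have hinter : fixSet u' ∩ fixSet y = fixSet y := Finset.inter_eq_right.mpr
    fun p hp => mem_fixSet.mpr (hufix p hp)
  rcases hr25 with rfl | rfl
  · have h8 := invol_fix hu' hu3
    by_cases hk1 : k = 1
    · have h := modEq_fixed (by norm_num) hy (fixSet u') (hcomm hk1)
      rw [hinter, h8, h3] at h
      exact absurd h (by decide)
    · have hk6 : k = 6 := by interval_cases k <;> simp_all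
      subst hk6
      have hR : 5 ≤ (fixSet u' \ fixSet y).card := by
        have := Finset.card_inter_add_card_sdiff (fixSet u') (fixSet y)
        rw [hinter, h3, h8] at this
        omega
      have hlt : (fixSet y)ᶜ.card < ((fixSet u' \ fixSet y) ×ˢ Finset.range 7).card := by
        rw [Finset.card_product, Finset.card_compl, Finset.card_range, h3,
          Cfsg.Agent.Spor.Golay.card_golayPt]
        omega
      have hmaps : ∀ z ∈ (fixSet u' \ fixSet y) ×ˢ Finset.range 7,
          (fun z : GolayPt × ℕ => y ^ z.2 • z.1) z ∈ (fixSet y)ᶜ := by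
        intro z hz
        rw [Finset.mem_product, Finset.mem_sdiff, mem_fixSet, mem_fixSet] at hz
        rw [Finset.mem_compl, mem_fixSet]
        intro h
        refine hz.1.2 (MulAction.injective (y ^ z.2) ?_)
        show y ^ z.2 • y • z.1 = y ^ z.2 • z.1
        simp only at h
        rw [← mul_smul] at h ⊢
        rw [← pow_succ, pow_succ']
        exact h
      obtain ⟨⟨p, i⟩, hpi, ⟨q, j⟩, hqj, hne, he⟩ := Finset.exists_ne_map_eq_of_card_lt_of_maps_to
        (f := fun z : GolayPt × ℕ => y ^ z.2 • z.1) hlt hmaps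
      rw [Finset.mem_product, Finset.mem_sdiff, mem_fixSet, mem_fixSet, Finset.mem_range] at hpi hqj
      simp only at he hpi hqj
      by_cases hpq : p = q
      · subst hpq
        exact hpi.1.2 (fix_of_pow_eq (by norm_num) hy hpi.2 hqj.2 (fun h => hne (Prod.ext rfl h)) he)
      have hm : y ^ (i + 6 * j) • p = q := by
        rw [Nat.add_comm i, pow_add, mul_smul,
          he, ← mul_smul, ← pow_add, show 6 * j + j = 7 * j by omega, pow_mul, ← hy,
          pow_orderOf_eq_one, one_pow, one_smul]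
      have h1 := hconj 1 (i + 6 * j)
      rw [pow_one, pow_one] at h1
      have h2 : y ^ (6 * (i + 6 * j) % 7) • p = y ^ ((i + 6 * j) % 7) • p := by
        rw [← hy, pow_mod_orderOf, pow_mod_orderOf, hm, ← hqj.1.1, ← hm, ← mul_smul u', h1,
          mul_smul, hpi.1.1]
      by_cases h0 : (i + 6 * j) % 7 = 0
      · rw [show y ^ (i + 6 * j) = 1 from by
          rw [← pow_mod_orderOf, hy, h0, pow_zero], one_smul] at hm
        exact hpq hm
      · exact hpi.1.2 (fix_of_pow_eq (by norm_num) hy (Nat.mod_lt _ (by norm_num))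
          (Nat.mod_lt _ (by norm_num)) (by omega) h2)
  · have hk1 : k = 1 := by interval_cases k <;> simp_all
    obtain ⟨h4, hm⟩ := card_fixSet (by norm_num) hu' (by norm_num)
    have h := modEq_fixed (by norm_num) hy (fixSet u') (hcomm hk1)
    rw [hinter, h3, show (fixSet u').card = 4 by omega] at h
    exact absurd h (by decide)

/-- A subgroup of index 276 fixes a pair. -/
theorem exists_pair_fixed {K : Subgroup ↥M24} (hK : Nat.card K = 887040) :
    ∃ s : Finset GolayPt, s.card = 2 ∧ K ≤ MulAction.stabilizer ↥M24 s := by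
  classical
  obtain ⟨x, hxK, hx⟩ := exists_order (K := K) (q := 11) (by norm_num) (by rw [hK]; norm_num)
  obtain ⟨y, hyK, hy⟩ := exists_order (K := K) (q := 7) (by norm_num) (by rw [hK]; norm_num)
  obtain ⟨hx4, hxm⟩ := card_fixSet (by norm_num) hx (by norm_num)
  have hx2 : (fixSet x).card = 2 := by omega
  obtain ⟨a, b, hab, hF⟩ := Finset.card_eq_two.mp hx2
  have h23 : ¬ 23 ∣ Nat.card K := by rw [hK]; norm_num
  have hxa : x • a = a := mem_fixSet.mp (hF ▸ Finset.mem_insert_self a _)
  have hxb : x • b = b := mem_fixSet.mp (hF ▸ Finset.mem_insert_of_mem (Finset.mem_singleton_self b))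
  -- the orbit of `a` is not the whole set
  have hna : (orb K a).card ≠ 24 := by
    intro h24
    let L : Subgroup ↥M24 := K ⊓ MulAction.stabilizer ↥M24 a
    have hLc : Nat.card L = 36960 := by
      have h : (orb K a).card * Nat.card L = Nat.card K := orb_mul K a
      rw [h24, hK] at h
      omega
    have hxL : x ∈ L := ⟨hxK, hxa⟩
    obtain ⟨z, hzL, hz⟩ := exists_order (K := L) (q := 7) (by norm_num) (by rw [hLc]; norm_num)
    have hL23 : ¬ 23 ∣ Nat.card L := by rw [hLc]; norm_num
    have hfa : ∀ g ∈ L, g • a = a := fun g hg => hg.2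
    have hfb : ∀ g ∈ L, g • b = b := by
      intro g hg
      obtain ⟨hs, hi⟩ := orb_size hxL hzL hx hz hL23 b
      have ha : a ∉ orb L b := not_mem_orb hfa hab.symm
      have h1 : orb L b ∩ fixSet x = {b} := by
        ext p
        rw [Finset.mem_inter, hF, Finset.mem_insert, Finset.mem_singleton]
        refine ⟨fun h => h.2.resolve_left fun e => ha (e ▸ h.1), ?_⟩
        rintro rfl
        exact ⟨self_mem_orb L p, Or.inr rfl⟩
      rw [h1, Finset.card_singleton] at hi
      have h2 : (orb L b).card = 1 := by omega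
      obtain ⟨c, hc⟩ := Finset.card_eq_one.mp h2
      have h3 := smul_mem_orb hg (self_mem_orb L b)
      have h4 := self_mem_orb L b
      rw [hc, Finset.mem_singleton] at h3 h4
      rw [h3, ← h4]
    have hFz : {a, b} ⊆ fixSet z := by
      intro p hp
      rw [Finset.mem_insert, Finset.mem_singleton] at hp
      rcases hp with rfl | rfl
      · exact mem_fixSet.mpr (hfa z hzL)
      · exact mem_fixSet.mpr (hfb z hzL)
    have hz3 : (fixSet z).card = 3 := by
      obtain ⟨h4, hm⟩ := card_fixSet (by norm_num) hz (by norm_num); omega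
    obtain ⟨c, hc⟩ : ∃ c, fixSet z \ {a, b} = {c} := Finset.card_eq_one.mp
      (by rw [Finset.card_sdiff_of_subset hFz, hz3, Finset.card_pair hab])
    have hc' : c ∈ fixSet z \ {a, b} := hc ▸ Finset.mem_singleton_self c
    rw [Finset.mem_sdiff, Finset.mem_insert, Finset.mem_singleton, not_or] at hc'
    obtain ⟨hs, hi⟩ := orb_size hxL hzL hx hz hL23 c
    have h1 : orb L c ∩ fixSet x = ∅ := by
      refine Finset.eq_empty_of_forall_notMem fun p hp => ?_
      rw [Finset.mem_inter, hF, Finset.mem_insert, Finset.mem_singleton] at hp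
      rcases hp.2 with rfl | rfl
      · exact not_mem_orb hfa hc'.2.1 hp.1
      · exact not_mem_orb hfb hc'.2.2 hp.1
    rw [h1, Finset.card_empty] at hi
    have h22 : (orb L c).card = 22 := by omega
    have hcard := orb_mul L c
    rw [h22, hLc] at hcard
    refine no_1680 (L := L ⊓ MulAction.stabilizer ↥M24 c) (by omega)
      ⟨hzL, mem_fixSet.mp hc'.1⟩ hz fun g hg p hp => ?_
    have : p = a ∨ p = b ∨ p = c := by
      by_cases h : p ∈ ({a, b} : Finset GolayPt)
      · rw [Finset.mem_insert, Finset.mem_singleton] at h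
        tauto
      · have : p ∈ fixSet z \ {a, b} := Finset.mem_sdiff.mpr ⟨hp, h⟩
        rw [hc, Finset.mem_singleton] at this
        exact Or.inr (Or.inr this)
    rcases this with rfl | rfl | rfl
    · exact hfa g hg.1
    · exact hfb g hg.1
    · exact hg.2
  refine ⟨{a, b}, Finset.card_pair hab, fun g hg => ?_⟩
  rw [MulAction.mem_stabilizer_iff]
  -- each fixed point has its orbit inside the pair
  have key : ∀ p ∈ fixSet x,
      (orb K p).card ≠ 24 → orb K p ⊆ fixSet x := by
    intro p hp h24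
    obtain ⟨hs, hi⟩ := orb_size hxK hyK hx hy h23 p
    have hne : 1 ≤ (orb K p ∩ fixSet x).card :=
      Finset.card_pos.mpr ⟨p, Finset.mem_inter.mpr ⟨self_mem_orb K p, hp⟩⟩
    have : (orb K p).card ≤ (orb K p ∩ fixSet x).card := by omega
    exact Finset.inter_eq_left.mp (Finset.eq_of_subset_of_card_le Finset.inter_subset_left this)
  have hnb : (orb K b).card ≠ 24 := by
    intro h
    have hu : orb K b = Finset.univ := Finset.eq_univ_of_card _
      (by rw [h, Cfsg.Agent.Spor.Golay.card_golayPt])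
    obtain ⟨k, hk, he⟩ := mem_orb.mp (hu ▸ Finset.mem_univ a : a ∈ orb K b)
    refine hna ?_
    have : orb K a = Finset.univ := Finset.eq_univ_of_forall fun q => by
      obtain ⟨m, hm, hme⟩ := mem_orb.mp (hu ▸ Finset.mem_univ q : q ∈ orb K b)
      exact mem_orb.mpr ⟨m * k⁻¹, K.mul_mem hm (K.inv_mem hk), by
        rw [mul_smul, ← he, inv_smul_smul, hme]⟩
    rw [this, Finset.card_univ, Cfsg.Agent.Spor.Golay.card_golayPt]
  have hall : ∀ q ∈ fixSet x, (orb K q).card ≠ 24 := by
    intro q hq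
    rw [hF, Finset.mem_insert, Finset.mem_singleton] at hq
    rcases hq with rfl | rfl
    · exact hna
    · exact hnb
  refine Finset.eq_of_subset_of_card_le ?_ (by rw [Finset.card_smul_finset])
  intro w hw
  obtain ⟨v, hv, rfl⟩ := Finset.mem_smul_finset.mp hw
  rw [← hF] at hv ⊢
  exact key v hv (hall v hv) (smul_mem_orb hg (self_mem_orb K v))

end Cfsg.Agent.Fus.M24Index
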