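import Cfsg.Agent.Lib.Fus.MathieuTwo
import Cfsg.Agent.Lib.Fus.MathieuTwoData24
import Cfsg.Agent.Lib.Spor.Golay.M24Facts

/-!
A Sylow 2-subgroup of the group of the length-24 code that fixes an octad, is transitive on it,
and whose stabiliser of one point of the octad is transitive on the sixteen other points.
Every subgroup of odd index has a conjugate containing it.
-/

set_option autoImplicit false
set_option maxRecDepth 100000

namespace Cfsg.Agent.Fus.M24Index

open Cfsg.Agent.Spor.Golay
open scoped Pointwise

attribute [local irreducible] permOf comp pack Cfsg.Agent.Spor.Golay.get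

/-- The list of elements. -/
def els : List ℕ := Mathieu.cert24.els

/-- The checks on the orbits: the octad is invariant. -/
def fixCheck : Bool := els.all fun e => imgMask (Cfsg.Agent.Spor.Golay.get e) octA == octA

/-- The checks on the orbits: transitivity on the octad. -/
def inCheck : Bool :=
  (List.range 24).all fun i =>
    !octA.testBit i || els.any fun e => Cfsg.Agent.Spor.Golay.get e 0 == i

/-- The checks on the orbits: the stabiliser is transitive outside the octad. -/
def outCheck : Bool :=
  (List.range 24).all fun i =>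
    octA.testBit i || els.any fun e =>
      (Cfsg.Agent.Spor.Golay.get e 0 == 0) && (Cfsg.Agent.Spor.Golay.get e 5 == i)

theorem fixCheck_ok : fixCheck = true := by decide +kernel

theorem inCheck_ok : inCheck = true := by decide +kernel

theorem outCheck_ok : outCheck = true := by decide +kernel

/-- The three facts about the Sylow subgroup. -/
structure Good (S : Subgroup ↥M24) : Prop where
  card : Nat.card S = 2 ^ 10
  fixO : ∀ s ∈ S, ∀ p, p ∈ pts octA → (s : Equiv.Perm GolayPt) p ∈ pts octA
  onO : ∀ p ∈ pts octA, ∃ s ∈ S, (s : Equiv.Perm GolayPt) (pt 0) = p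
  outO : ∀ q ∉ pts octA, ∃ s ∈ S, (s : Equiv.Perm GolayPt) (pt 0) = pt 0 ∧
    (s : Equiv.Perm GolayPt) (pt 5) = q

theorem exists_good : ∃ S : Subgroup ↥M24, Good S := by
  have hG := Mathieu.cert24_group
  simp only [Mathieu.Cert.groupOk, Bool.and_eq_true, beq_iff_eq] at hG
  obtain ⟨⟨⟨⟨htake, hgrow⟩, -⟩, -⟩, -⟩ := hG
  obtain ⟨hlen, hels, hnd, H, hHM, hH, -, -⟩ := Mathieu.stage_grow Mathieu.cert24.gens 0 []
    hgrow (by rw [pow_zero, htake]; exact Mathieu.stage_base _)
  rw [Nat.zero_add] at hlen
  have hle : H ≤ M24 := fun x hx => (mem_Fix.mp (hHM hx)).1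
  refine ⟨H.subgroupOf M24, ⟨?_, ?_, ?_, ?_⟩⟩
  · rw [Nat.card_congr (Subgroup.subgroupOfEquivOfLe hle).toEquiv]
    classical
    have h10 : Mathieu.cert24.gens.length = 10 := by decide +kernel
    rw [← h10, ← hlen, ← List.length_map (f := permOf), ← List.toFinset_card_of_nodup hnd,
      ← Nat.card_eq_finsetCard]
    exact Nat.card_congr (Equiv.subtypeEquivRight fun x => by rw [hH x, List.mem_toFinset])
  · intro s hs p hp
    rw [Subgroup.mem_subgroupOf, hH] at hs
    obtain ⟨e, he, heq⟩ := List.mem_map.mp hs
    have h := (List.all_eq_true.mp fixCheck_ok) e he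
    rw [beq_iff_eq] at h
    have h2 := permOf_smul_pts (hels e he) octA
    rw [h] at h2
    rw [← heq, ← h2]
    exact Finset.smul_mem_smul_finset (a := permOf e) hp
  · intro p hp
    have h := (List.all_eq_true.mp inCheck_ok) (idx p) (List.mem_range.mpr (idx_lt p))
    rw [mem_pts] at hp
    rw [hp, Bool.not_true, Bool.false_or, List.any_eq_true] at h
    obtain ⟨e, he, hee⟩ := h
    rw [beq_iff_eq] at hee
    refine ⟨⟨permOf e, hle ((hH _).mpr (List.mem_map_of_mem he))⟩, ?_, idx_injective ?_⟩
    · rw [Subgroup.mem_subgroupOf, hH]; exact List.mem_map_of_mem he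
    · show idx (permOf e (pt 0)) = idx p
      rw [idx_permOf (hels e he), idx_pt (by norm_num), hee]
  · intro q hq
    have h := (List.all_eq_true.mp outCheck_ok) (idx q) (List.mem_range.mpr (idx_lt q))
    rw [mem_pts, Bool.not_eq_true] at hq
    rw [hq, Bool.false_or, List.any_eq_true] at h
    obtain ⟨e, he, hee⟩ := h
    rw [Bool.and_eq_true, beq_iff_eq, beq_iff_eq] at hee
    refine ⟨⟨permOf e, hle ((hH _).mpr (List.mem_map_of_mem he))⟩, ?_, idx_injective ?_,
      idx_injective ?_⟩
    · rw [Subgroup.mem_subgroupOf, hH]; exact List.mem_map_of_mem he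
    · show idx (permOf e (pt 0)) = idx (pt 0)
      rw [idx_permOf (hels e he), idx_pt (by norm_num), hee.1]
    · show idx (permOf e (pt 5)) = idx q
      rw [idx_permOf (hels e he), idx_pt (by norm_num), hee.2]

/-- A subgroup of odd index has a conjugate containing a given subgroup of order `2 ^ 10`. -/
theorem exists_conj_le {S : Subgroup ↥M24} (hS : Nat.card S = 2 ^ 10) {H : Subgroup ↥M24}
    (hH : Odd H.index) : ∃ g : M24, S ≤ H.map (MulAut.conj g).toMonoidHom := by
  haveI : Fact (Nat.Prime 2) := ⟨Nat.prime_two⟩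
  have hS2 : IsPGroup 2 S := IsPGroup.of_card hS
  obtain ⟨P, hP⟩ := hS2.exists_le_sylow
  obtain ⟨Q⟩ := (Sylow.nonempty (p := 2) (G := H))
  have hQ : Nat.card ((Q : Subgroup H).map H.subtype) = Nat.card (Q : Subgroup H) :=
    (Nat.card_congr ((Q : Subgroup H).equivMapOfInjective _ H.subtype_injective).toEquiv).symm
  have hQ10 : Nat.card ((Q : Subgroup H).map H.subtype) = 2 ^ 10 := by
    rw [hQ]
    have h1 := Sylow.card_eq_multiplicity Q
    have h2 := H.card_mul_index
    rw [card_M24] at h2
    have h3 : (Nat.card H).factorization 2 = 10 := by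
      have h4 := congrArg (fun n => n.factorization 2) h2
      rw [Nat.factorization_mul Nat.card_pos.ne' (Nat.pos_of_ne_zero fun h => by
        rw [h] at hH; exact absurd hH (by decide)).ne', Finsupp.add_apply,
        Nat.factorization_eq_zero_of_not_dvd (n := H.index) (fun h => (Nat.not_even_iff_odd.mpr hH)
          (even_iff_two_dvd.mpr h)), add_zero] at h4
      rw [h4, show (244823040 : ℕ) = 2 ^ 10 * 239085 by norm_num,
        Nat.factorization_mul (by norm_num) (by norm_num), Finsupp.add_apply,
        Nat.Prime.factorization_pow Nat.prime_two, Finsupp.single_eq_same,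
        Nat.factorization_eq_zero_of_not_dvd (n := 239085) (by norm_num)]
    rw [h1, h3]
  let R : Sylow 2 ↥M24 := Sylow.ofCard ((Q : Subgroup H).map H.subtype) (by
    rw [hQ10, card_M24, show (244823040 : ℕ) = 2 ^ 10 * 239085 by norm_num,
      Nat.factorization_mul (by norm_num) (by norm_num), Finsupp.add_apply,
      Nat.Prime.factorization_pow Nat.prime_two, Finsupp.single_eq_same,
      Nat.factorization_eq_zero_of_not_dvd (n := 239085) (by norm_num), add_zero])
  obtain ⟨g, hg⟩ := MulAction.exists_smul_eq ↥M24 R P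
  refine ⟨g, hP.trans ?_⟩
  rw [← hg, Sylow.coe_subgroup_smul]
  intro x hx
  obtain ⟨y, hy, rfl⟩ := Subgroup.mem_map.mp hx
  exact Subgroup.mem_map.mpr ⟨y, Subgroup.map_subtype_le _ hy, rfl⟩

end Cfsg.Agent.Fus.M24Index
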